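import Mathlib
import Groth.Prelude.Def_Pi1X

open CategoryTheory CategoryTheory.Limits CategoryTheory.PreGaloisCategory

set_option linter.unusedSectionVars false

namespace Helper5.Gal

universe u v w
variable {C : Type u} [Category.{v} C] [GaloisCategory C] (F : C ⥤ FintypeCat.{w}) [FiberFunctor F]

/-- The fibre of the terminal object is a singleton. -/
@[instance_reducible]
noncomputable def uniqueFiberTerminal : Unique (F.obj (⊤_ C)) := by
  have h : IsTerminal ((F ⋙ FintypeCat.incl).obj (⊤_ C)) :=
    IsTerminal.isTerminalObj _ _ terminalIsTerminal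
  exact Types.isTerminalEquivUnique _ h

/-- A point of a fibre is fixed by `Aut F` iff it comes from a section from the terminal object. -/
lemma fixed_iff_exists_section (X : C) (a : F.obj X) :
    (∀ σ : Aut F, σ • a = a) ↔ ∃ s : ⊤_ C ⟶ X, ∀ t : F.obj (⊤_ C), F.map s t = a := by
  constructor
  · intro h
    let φ : (functorToAction F).obj (⊤_ C) ⟶ (functorToAction F).obj X :=
      { hom := FintypeCat.homMk (fun _ => a)
        comm := fun g => by
          ext t
          exact (h g).symm }
    obtain ⟨s, hs⟩ := (functorToAction F).map_surjective φ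
    refine ⟨s, fun t => ?_⟩
    have : F.map s = FintypeCat.homMk (fun _ => a) := by
      rw [← functorToAction_map, hs]
      rfl
    rw [this]; rfl
  · rintro ⟨s, hs⟩ σ
    let _ := uniqueFiberTerminal F
    rw [← hs default, mulAction_naturality, hs, hs]

section functor

variable {C' : Type u} [Category.{v} C'] [GaloisCategory C'] (H : C ⥤ C')
  (F' : C' ⥤ FintypeCat.{w}) [FiberFunctor F'] [FiberFunctor (H ⋙ F')]

lemma autWhisker_smul (σ : Aut F') (X : C) (x : (H ⋙ F').obj X) :
    (Pi1X.autWhisker H F' σ) • x = (σ • (show F'.obj (H.obj X) from x) : F'.obj (H.obj X)) :=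
  rfl

lemma range_le_stabilizer_iff (X : C) (a : (H ⋙ F').obj X) :
    (Pi1X.autWhisker H F').range ≤ MulAction.stabilizer (Aut (H ⋙ F')) a ↔
      ∀ σ : Aut F', (σ • (show F'.obj (H.obj X) from a) : F'.obj (H.obj X)) = a := by
  constructor
  · intro h σ
    exact h ⟨σ, rfl⟩
  · rintro h _ ⟨σ, rfl⟩
    exact h σ

theorem range_le_stabilizer_iff_section (X : C) (a : (H ⋙ F').obj X) :
    (Pi1X.autWhisker H F').range ≤ MulAction.stabilizer (Aut (H ⋙ F')) a ↔
      ∃ s : ⊤_ C' ⟶ H.obj X, ∀ t : F'.obj (⊤_ C'), F'.map s t = a := by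
  rw [range_le_stabilizer_iff]
  exact fixed_iff_exists_section F' (H.obj X) a

end functor

end Helper5.Gal
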