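import Mathlib

/-! Continuous 1-cocycles of an (infinite) Galois group with values in `Lˣ` or `L` are
coboundaries (Hilbert 90 for the Krull topology). -/

set_option autoImplicit false
set_option linter.style.haveILetI false
set_option linter.unusedSectionVars false
universe u

namespace Groth.Agent.Helper5.ContCocycle

open scoped Topology
open groupCohomology

variable (K L : Type u) [Field K] [Field L] [Algebra K L] [IsGalois K L]

/-- Multiplicative Hilbert 90 for locally constant cocycles. -/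
theorem cont_H90 (a : (L ≃ₐ[K] L) → Lˣ)
    (ha : ∀ σ τ : L ≃ₐ[K] L, a (σ * τ) = a σ * σ • a τ) (hlc : IsLocallyConstant a) :
    ∃ c : Lˣ, ∀ σ : L ≃ₐ[K] L, a σ = c⁻¹ * σ • c := by
  have h1 : a 1 = 1 := by
    have := ha 1 1
    rw [one_mul, one_smul] at this
    exact (mul_eq_left.mp this.symm)
  have hnhd : {σ | a σ = 1} ∈ 𝓝 (1 : L ≃ₐ[K] L) := (hlc.isOpen_fiber 1).mem_nhds h1
  obtain ⟨E, hfin, hnorm, hE⟩ := (krullTopology_mem_nhds_one_iff_of_normal K L _).mp hnhd
  haveI := hfin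
  haveI := hnorm
  have hH : ∀ τ ∈ E.fixingSubgroup, a τ = 1 := fun τ hτ => hE hτ
  have hστ : ∀ σ, ∀ τ ∈ E.fixingSubgroup, a (σ * τ) = a σ := by
    intro σ τ hτ; rw [ha, hH τ hτ, smul_one, mul_one]
  have hnormal : E.fixingSubgroup.Normal := by
    rw [← E.restrictNormalHom_ker]; exact MonoidHom.normal_ker _
  have hfix : ∀ σ, ∀ τ ∈ E.fixingSubgroup, τ • a σ = a σ := by
    intro σ τ hτ
    have e1 : a (τ * σ) = τ • a σ := by rw [ha, hH τ hτ, one_mul]
    have e2 : a (τ * σ) = a σ := by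
      have : τ * σ = σ * (σ⁻¹ * τ * σ) := by group
      rw [this]; exact hστ σ _ (hnormal.conj_mem' τ hτ σ)
    rw [← e1, e2]
  have hmem : ∀ σ, ((a σ : Lˣ) : L) ∈ E := by
    intro σ
    rw [← InfiniteGalois.fixedField_fixingSubgroup E, IntermediateField.mem_fixedField_iff]
    intro τ hτ
    exact congrArg Units.val (hfix σ τ hτ)
  have hr : Function.Surjective (AlgEquiv.restrictNormalHom (F := K) (K₁ := L) E) :=
    AlgEquiv.restrictNormalHom_surjective L
  have hlift : ∀ s, AlgEquiv.restrictNormalHom (F := K) (K₁ := L) E (Function.surjInv hr s) = s :=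
    Function.surjInv_eq hr
  have hker : ∀ σ σ', AlgEquiv.restrictNormalHom (F := K) (K₁ := L) E σ =
      AlgEquiv.restrictNormalHom (F := K) (K₁ := L) E σ' → a σ = a σ' := by
    intro σ σ' h
    have hm : σ⁻¹ * σ' ∈ E.fixingSubgroup := by
      rw [← E.restrictNormalHom_ker, MonoidHom.mem_ker, map_mul, map_inv, h, inv_mul_cancel]
    have := hστ σ _ hm
    rw [mul_inv_cancel_left] at this
    exact this.symm
  let ā : (E ≃ₐ[K] E) → Eˣ := fun s =>
    Units.mk0 ⟨(a (Function.surjInv hr s) : L), hmem _⟩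
      (fun h => (a (Function.surjInv hr s)).ne_zero (congrArg Subtype.val h))
  have hcomm : ∀ (σ : L ≃ₐ[K] L) (x : E), σ (x : L) =
      ((AlgEquiv.restrictNormalHom (F := K) (K₁ := L) E σ x : E) : L) := fun σ x =>
    (AlgEquiv.restrictNormal_commutes σ E x).symm
  have hā : IsMulCocycle₁ ā := by
    intro s t
    apply Units.ext
    apply Subtype.ext
    have e1 : a (Function.surjInv hr (s * t)) =
        a (Function.surjInv hr s * Function.surjInv hr t) := by
      apply hker
      rw [map_mul, hlift, hlift, hlift]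
    have e2 := hcomm (Function.surjInv hr s) ⟨(a (Function.surjInv hr t) : L), hmem _⟩
    rw [hlift] at e2
    simp only [ā, Units.val_mk0, Units.val_mul, AlgEquiv.smul_units_def, Units.coe_map,
      MonoidHom.coe_coe, MulMemClass.coe_mul]
    rw [e1, ha, Units.val_mul, AlgEquiv.smul_units_def, Units.coe_map, MonoidHom.coe_coe, ← e2,
      mul_comm]
  obtain ⟨x, hx⟩ := isMulCoboundary₁_of_isMulCocycle₁_of_aut_to_units ā hā
  refine ⟨Units.map (algebraMap E L).toMonoidHom x, fun σ => ?_⟩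
  have e1 : a σ = a (Function.surjInv hr (AlgEquiv.restrictNormalHom (F := K) (K₁ := L) E σ)) := by
    apply hker; rw [hlift]
  have e2 := hx (AlgEquiv.restrictNormalHom (F := K) (K₁ := L) E σ)
  have e3 := hcomm σ (x : E)
  apply Units.ext
  have e4 : ((a σ : Lˣ) : L) = ((ā (AlgEquiv.restrictNormalHom (F := K) (K₁ := L) E σ) : Eˣ) : E) := by
    simp only [ā, Units.val_mk0]
    rw [← e1]
  rw [e4, ← e2]
  simp only [Units.val_mul, Units.val_inv_eq_inv_val, Units.coe_map, MonoidHom.coe_coe,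
    RingHom.toMonoidHom_eq_coe, AlgEquiv.smul_units_def, Units.val_div_eq_div_val,
    IntermediateField.algebraMap_apply]
  rw [e3]
  push_cast
  rw [div_eq_inv_mul]

/-- Additive Hilbert 90 for a finite Galois extension. -/
theorem finite_addH90 (K E : Type*) [Field K] [Field E] [Algebra K E] [FiniteDimensional K E]
    [IsGalois K E] (b : (E ≃ₐ[K] E) → E) (hb : ∀ s t : E ≃ₐ[K] E, b (s * t) = b s + s (b t)) :
    ∃ y : E, ∀ s : E ≃ₐ[K] E, b s = s y - y := by
  obtain ⟨θ, hθ⟩ := Algebra.trace_surjective K E 1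
  have hsum : ∑ t : E ≃ₐ[K] E, t θ = 1 := by
    rw [← trace_eq_sum_automorphisms, hθ, map_one]
  refine ⟨-∑ t : E ≃ₐ[K] E, b t * t θ, fun s => ?_⟩
  have h1 : s (∑ t : E ≃ₐ[K] E, b t * t θ) = ∑ t : E ≃ₐ[K] E, (b (s * t) - b s) * (s * t) θ := by
    rw [map_sum]
    refine Finset.sum_congr rfl fun t _ => ?_
    rw [map_mul, hb s t, add_sub_cancel_left]
    rfl
  have h2 : ∑ t : E ≃ₐ[K] E, (b (s * t) - b s) * (s * t) θ =
      ∑ u : E ≃ₐ[K] E, (b u - b s) * u θ :=
    Fintype.sum_equiv (Equiv.mulLeft s) _ _ (fun t => rfl)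
  have h3 : ∑ u : E ≃ₐ[K] E, (b u - b s) * u θ = (∑ u : E ≃ₐ[K] E, b u * u θ) - b s := by
    simp only [sub_mul, Finset.sum_sub_distrib, ← Finset.mul_sum, hsum, mul_one]
  rw [map_neg, h1, h2, h3]
  ring

/-- Additive Hilbert 90 for locally constant cocycles. -/
theorem cont_addH90 (a : (L ≃ₐ[K] L) → L)
    (ha : ∀ σ τ : L ≃ₐ[K] L, a (σ * τ) = a σ + σ (a τ)) (hlc : IsLocallyConstant a) :
    ∃ y : L, ∀ σ : L ≃ₐ[K] L, a σ = σ y - y := by
  have h1 : a 1 = 0 := by
    have := ha 1 1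
    rw [one_mul, AlgEquiv.one_apply] at this
    exact (add_eq_left.mp this.symm)
  have hnhd : {σ | a σ = 0} ∈ 𝓝 (1 : L ≃ₐ[K] L) := (hlc.isOpen_fiber 0).mem_nhds h1
  obtain ⟨E, hfin, hnorm, hE⟩ := (krullTopology_mem_nhds_one_iff_of_normal K L _).mp hnhd
  haveI := hfin
  haveI := hnorm
  have hH : ∀ τ ∈ E.fixingSubgroup, a τ = 0 := fun τ hτ => hE hτ
  have hστ : ∀ σ, ∀ τ ∈ E.fixingSubgroup, a (σ * τ) = a σ := by
    intro σ τ hτ; rw [ha, hH τ hτ, map_zero, add_zero]
  have hnormal : E.fixingSubgroup.Normal := by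
    rw [← E.restrictNormalHom_ker]; exact MonoidHom.normal_ker _
  have hfix : ∀ σ, ∀ τ ∈ E.fixingSubgroup, τ (a σ) = a σ := by
    intro σ τ hτ
    have e1 : a (τ * σ) = τ (a σ) := by rw [ha, hH τ hτ, zero_add]
    have e2 : a (τ * σ) = a σ := by
      have : τ * σ = σ * (σ⁻¹ * τ * σ) := by group
      rw [this]; exact hστ σ _ (hnormal.conj_mem' τ hτ σ)
    rw [← e1, e2]
  have hmem : ∀ σ, a σ ∈ E := by
    intro σ
    rw [← InfiniteGalois.fixedField_fixingSubgroup E, IntermediateField.mem_fixedField_iff]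
    intro τ hτ
    exact hfix σ τ hτ
  have hr : Function.Surjective (AlgEquiv.restrictNormalHom (F := K) (K₁ := L) E) :=
    AlgEquiv.restrictNormalHom_surjective L
  have hlift : ∀ s, AlgEquiv.restrictNormalHom (F := K) (K₁ := L) E (Function.surjInv hr s) = s :=
    Function.surjInv_eq hr
  have hker : ∀ σ σ', AlgEquiv.restrictNormalHom (F := K) (K₁ := L) E σ =
      AlgEquiv.restrictNormalHom (F := K) (K₁ := L) E σ' → a σ = a σ' := by
    intro σ σ' h
    have hm : σ⁻¹ * σ' ∈ E.fixingSubgroup := by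
      rw [← E.restrictNormalHom_ker, MonoidHom.mem_ker, map_mul, map_inv, h, inv_mul_cancel]
    have := hστ σ _ hm
    rw [mul_inv_cancel_left] at this
    exact this.symm
  let ā : (E ≃ₐ[K] E) → E := fun s => ⟨a (Function.surjInv hr s), hmem _⟩
  have hcomm : ∀ (σ : L ≃ₐ[K] L) (x : E), σ (x : L) =
      ((AlgEquiv.restrictNormalHom (F := K) (K₁ := L) E σ x : E) : L) := fun σ x =>
    (AlgEquiv.restrictNormal_commutes σ E x).symm
  haveI : IsGalois K E := ⟨⟩
  have hā : ∀ s t : E ≃ₐ[K] E, ā (s * t) = ā s + s (ā t) := by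
    intro s t
    apply Subtype.ext
    have e1 : a (Function.surjInv hr (s * t)) =
        a (Function.surjInv hr s * Function.surjInv hr t) := by
      apply hker
      rw [map_mul, hlift, hlift, hlift]
    have e2 := hcomm (Function.surjInv hr s) ⟨a (Function.surjInv hr t), hmem _⟩
    rw [hlift] at e2
    simp only [ā, AddMemClass.coe_add]
    rw [e1, ha, ← e2]
  obtain ⟨y, hy⟩ := finite_addH90 K E ā hā
  refine ⟨(y : L), fun σ => ?_⟩
  have e1 : a σ = a (Function.surjInv hr (AlgEquiv.restrictNormalHom (F := K) (K₁ := L) E σ)) := by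
    apply hker; rw [hlift]
  have e2 := congrArg Subtype.val (hy (AlgEquiv.restrictNormalHom (F := K) (K₁ := L) E σ))
  have e3 := hcomm σ y
  rw [e1, e3]
  exact e2

end Groth.Agent.Helper5.ContCocycle
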