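import Mathlib
import Groth.Agent.Lib.Helper5.Galois.Basic

open CategoryTheory CategoryTheory.Limits CategoryTheory.PreGaloisCategory

set_option linter.unusedSectionVars false

namespace Helper5.Gal

universe u v w
variable {C : Type u} [Category.{v} C] [GaloisCategory C] (F : C ⥤ FintypeCat.{w}) [FiberFunctor F]

lemma map_injective_of_mono {X Y : C} (i : X ⟶ Y) [Mono i] : Function.Injective (F.map i) :=
  (ConcreteCategory.mono_iff_injective_of_preservesPullback (F.map i)).mp inferInstance

lemma stabilizer_le_stabilizer_map {X Y : C} (f : X ⟶ Y) (x : F.obj X) :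
    MulAction.stabilizer (Aut F) x ≤ MulAction.stabilizer (Aut F) (F.map f x) := by
  intro σ hσ
  rw [MulAction.mem_stabilizer_iff] at hσ ⊢
  rw [mulAction_naturality, hσ]

/-- Morphisms out of a pointed connected object are controlled by stabilizers. -/
lemma exists_hom_of_stabilizer_le (Y X : C) [IsConnected Y] (y : F.obj Y) (a : F.obj X)
    (h : MulAction.stabilizer (Aut F) y ≤ MulAction.stabilizer (Aut F) a) :
    ∃ q : Y ⟶ X, F.map q y = a := by
  have hex : ∀ z : F.obj Y, ∃ σ : Aut F, σ • y = z := fun z => MulAction.exists_smul_eq _ y z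
  choose τ hτ using hex
  have key : ∀ (g : Aut F) (z : F.obj Y), τ (g • z) • a = g • (τ z • a) := by
    intro g z
    have h1 : (τ (g • z))⁻¹ * g * τ z ∈ MulAction.stabilizer (Aut F) y := by
      rw [MulAction.mem_stabilizer_iff, mul_smul, mul_smul, hτ z, inv_smul_eq_iff, hτ]
    have h2 := h h1
    rw [MulAction.mem_stabilizer_iff, mul_smul, mul_smul, inv_smul_eq_iff] at h2
    exact h2.symm
  let φ : (functorToAction F).obj Y ⟶ (functorToAction F).obj X :=
    { hom := FintypeCat.homMk (fun z => τ z • a)
      comm := fun g => by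
        ext z
        exact key g z }
  obtain ⟨q, hq⟩ := (functorToAction F).map_surjective φ
  refine ⟨q, ?_⟩
  have : F.map q = FintypeCat.homMk (fun z => τ z • a) := by
    rw [← functorToAction_map, hq]
    rfl
  rw [this]
  change τ y • a = a
  exact h (hτ y)

end Helper5.Gal
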