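import Mathlib
import Groth.Agent.Lib.Helper5.Galois.Ker

open CategoryTheory CategoryTheory.Limits CategoryTheory.PreGaloisCategory

set_option linter.unusedSectionVars false

namespace Helper5.Gal

universe u v w
variable {C C' : Type u} [Category.{v} C] [Category.{v} C'] [GaloisCategory C] [GaloisCategory C']
  (H : C ⥤ C') [PreservesFiniteLimits H] [PreservesFiniteColimits H]
  (F' : C' ⥤ FintypeCat.{w}) [FiberFunctor F'] [FiberFunctor (H ⋙ F')]

lemma mem_ker_iff (g : Aut F') :
    g ∈ (Pi1X.autWhisker H F').ker ↔ ∀ (X : C) (x : F'.obj (H.obj X)), g • x = x := by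
  rw [MonoidHom.mem_ker]
  constructor
  · intro h X x
    have : (Pi1X.autWhisker H F' g) • (show (H ⋙ F').obj X from x) = x := by
      rw [h]; exact one_smul _ _
    exact this
  · intro h
    apply Iso.ext
    ext X x
    exact h X x

/-- pointed objects of `C` (via `H ⋙ F'`) are cofiltered w.r.t. stabilizers in `Aut F'` -/
lemma exists_stabilizer_le_inf (X₁ X₂ : C) (x₁ : F'.obj (H.obj X₁)) (x₂ : F'.obj (H.obj X₂)) :
    ∃ (X : C) (x : F'.obj (H.obj X)),
      MulAction.stabilizer (Aut F') x ≤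
        MulAction.stabilizer (Aut F') x₁ ⊓ MulAction.stabilizer (Aut F') x₂ := by
  let e := fiberBinaryProductEquiv (H ⋙ F') X₁ X₂
  let x : (H ⋙ F').obj (X₁ ⨯ X₂) := e.symm (x₁, x₂)
  refine ⟨X₁ ⨯ X₂, x, ?_⟩
  have h1 : F'.map (H.map prod.fst) x = x₁ :=
    fiberBinaryProductEquiv_symm_fst_apply (F := H ⋙ F') (x := x₁) (y := x₂)
  have h2 : F'.map (H.map prod.snd) x = x₂ :=
    fiberBinaryProductEquiv_symm_snd_apply (F := H ⋙ F') (x := x₁) (y := x₂)
  refine le_inf ?_ ?_
  · have := stabilizer_le_stabilizer_map F' (H.map (prod.fst : X₁ ⨯ X₂ ⟶ X₁)) x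
    rwa [h1] at this
  · have := stabilizer_le_stabilizer_map F' (H.map (prod.snd : X₁ ⨯ X₂ ⟶ X₂)) x
    rwa [h2] at this

lemma exists_stabilizer_le_finset (t : Finset (Σ X : C, F'.obj (H.obj X))) :
    ∃ (X : C) (x : F'.obj (H.obj X)),
      ∀ i ∈ t, MulAction.stabilizer (Aut F') x ≤ MulAction.stabilizer (Aut F') i.2 := by
  classical
  induction t using Finset.induction_on with
  | empty =>
    exact ⟨⊤_ C, (uniqueFiberTerminal (H ⋙ F')).default, by simp⟩
  | insert a s _ ih =>
    obtain ⟨X, x, hx⟩ := ih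
    obtain ⟨Y, y, hy⟩ := exists_stabilizer_le_inf H F' X a.1 x a.2
    refine ⟨Y, y, ?_⟩
    intro i hi
    rcases Finset.mem_insert.1 hi with rfl | hi
    · exact hy.trans inf_le_right
    · exact (hy.trans inf_le_left).trans (hx i hi)

/-- An open subgroup containing `ker u` contains the stabilizer of a point in some `F'(H X)`. -/
lemma exists_stabilizer_le_of_ker_le (U : Subgroup (Aut F')) (hU : IsOpen (U : Set (Aut F')))
    (h : (Pi1X.autWhisker H F').ker ≤ U) :
    ∃ (X : C) (x : F'.obj (H.obj X)), MulAction.stabilizer (Aut F') x ≤ U := by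
  have hK : IsCompact ((U : Set (Aut F'))ᶜ) := hU.isClosed_compl.isCompact
  let V : (Σ X : C, F'.obj (H.obj X)) → Set (Aut F') :=
    fun i => ((MulAction.stabilizer (Aut F') i.2 : Subgroup (Aut F')) : Set (Aut F'))ᶜ
  have hV : ∀ i, IsOpen (V i) := fun i =>
    (Subgroup.isClosed_of_isOpen _ (stabilizer_isOpen (Aut F') i.2)).isOpen_compl
  have hcov : ((U : Set (Aut F'))ᶜ) ⊆ ⋃ i, V i := by
    intro g hg
    by_contra hcon
    apply hg
    apply h
    rw [mem_ker_iff]
    intro X x
    by_contra hx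
    apply hcon
    exact Set.mem_iUnion.2 ⟨⟨X, x⟩, hx⟩
  obtain ⟨t, ht⟩ := hK.elim_finite_subcover V hV hcov
  obtain ⟨X, x, hx⟩ := exists_stabilizer_le_finset H F' t
  refine ⟨X, x, ?_⟩
  intro g hg
  by_contra hgU
  obtain ⟨i, hi, hgi⟩ := Set.mem_iUnion₂.1 (ht hgU)
  exact hgi (hx i hi hg)

/-- The criterion for `ker u ≤ Stab(a')`. -/
theorem ker_le_stabilizer_iff (X' : C') [IsConnected X'] (a' : F'.obj X') :
    (Pi1X.autWhisker H F').ker ≤ MulAction.stabilizer (Aut F') a' ↔
      ∃ (X : C) (Y' : C') (i : Y' ⟶ H.obj X) (_ : Y' ⟶ X'), Mono i ∧ IsConnected Y' := by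
  constructor
  · intro h
    obtain ⟨X, x, hx⟩ := exists_stabilizer_le_of_ker_le H F' _ (stabilizer_isOpen (Aut F') a') h
    obtain ⟨Y', i, y, hy, hconn, hmono⟩ := fiber_in_connected_component F' (H.obj X) x
    have hle : MulAction.stabilizer (Aut F') y ≤ MulAction.stabilizer (Aut F') a' := by
      refine le_trans ?_ hx
      have := stabilizer_le_stabilizer_map F' i y
      rwa [hy] at this
    obtain ⟨q, -⟩ := exists_hom_of_stabilizer_le F' Y' X' y a' hle
    exact ⟨X, Y', i, q, hmono, hconn⟩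
  · rintro ⟨X, Y', i, q, hmono, hconn⟩ g hg
    rw [mem_ker_iff] at hg
    obtain ⟨y⟩ := nonempty_fiber_of_isConnected F' Y'
    have hfix : ∀ (g : Aut F'), g ∈ (Pi1X.autWhisker H F').ker → g • (F'.map q y) = F'.map q y := by
      intro g hg
      rw [mem_ker_iff] at hg
      have h1 : g • y = y := by
        apply map_injective_of_mono F' i
        rw [← mulAction_naturality, hg]
      rw [mulAction_naturality, h1]
    obtain ⟨σ, hσ⟩ := MulAction.exists_smul_eq (Aut F') (F'.map q y) a'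
    rw [MulAction.mem_stabilizer_iff, ← hσ]
    have hn : σ⁻¹ * g * σ ∈ (Pi1X.autWhisker H F').ker := by
      have := (inferInstance : (Pi1X.autWhisker H F').ker.Normal).conj_mem g
        ((mem_ker_iff H F' g).2 hg) σ⁻¹
      simpa using this
    have := hfix _ hn
    rw [mul_smul, mul_smul, inv_smul_eq_iff] at this
    exact this

end Helper5.Gal
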