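import Mathlib
import Groth.Agent.Lib.Helper5.Galois.Ker

open CategoryTheory CategoryTheory.Limits CategoryTheory.PreGaloisCategory

set_option linter.unusedSectionVars false

namespace Helper5.Gal

universe u v w
variable {C : Type u} [Category.{v} C] [GaloisCategory C] (F : C ⥤ FintypeCat.{w}) [FiberFunctor F]

/-- Transitive action on a nonempty fibre implies connected. -/
lemma isConnected_of_transitive (X : C) (x : F.obj X)
    (h : ∀ y : F.obj X, ∃ σ : Aut F, σ • x = y) : IsConnected X where
  notInitial := not_initial_of_inhabited F x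
  noTrivialComponent Z j _ hZ := by
    obtain ⟨z⟩ := (not_initial_iff_fiber_nonempty F Z).1 hZ
    have hinj : Function.Injective (F.map j) := map_injective_of_mono F j
    have hsurj : Function.Surjective (F.map j) := by
      intro y
      obtain ⟨σ, hσ⟩ := h (F.map j z)
      obtain ⟨τ, hτ⟩ := h y
      refine ⟨(τ * σ⁻¹) • z, ?_⟩
      rw [← mulAction_naturality, ← hσ, mul_smul, inv_smul_smul, hτ]
    have : IsIso (F.map j) := by
      have : F.map j = (FintypeCat.equivEquivIso (Equiv.ofBijective _ ⟨hinj, hsurj⟩)).hom := by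
        ext x; rfl
      rw [this]; infer_instance
    exact isIso_of_reflects_iso j F

open scoped FintypeCatDiscrete in
/-- Every open subgroup of `Aut F` is the stabilizer of a point of a connected object. -/
theorem exists_pointed_connected_of_isOpen (V : Subgroup (Aut F)) (hV : IsOpen (V : Set (Aut F))) :
    ∃ (X : C) (x : F.obj X), IsConnected X ∧ MulAction.stabilizer (Aut F) x = V := by
  have : Finite (Aut F ⧸ V) := V.quotient_finite_of_isOpen hV
  let n := Nat.card (Aut F ⧸ V)
  let e : ULift.{w} (Fin n) ≃ Aut F ⧸ V := Equiv.ulift.trans (Finite.equivFin _).symm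
  let _ : MulAction (Aut F) (ULift.{w} (Fin n)) := e.mulAction (Aut F)
  have hsmul : ∀ (g : Aut F) (t : ULift.{w} (Fin n)), e (g • t) = g • e t := by
    intro g t
    change e (e.symm (g • e t)) = _
    rw [Equiv.apply_symm_apply]
  let Y : Action FintypeCat.{w} (Aut F) :=
    Action.FintypeCat.ofMulAction (Aut F) (FintypeCat.of (ULift.{w} (Fin n)))
  have hstab : ∀ t : ULift.{w} (Fin n), IsOpen (MulAction.stabilizer (Aut F) t : Set (Aut F)) := by
    intro t
    obtain ⟨g, hg⟩ := QuotientGroup.mk_surjective (e t)
    have : (MulAction.stabilizer (Aut F) t : Set (Aut F)) =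
        (fun h : Aut F => g⁻¹ * h * g) ⁻¹' (V : Set (Aut F)) := by
      ext h
      simp only [SetLike.mem_coe, MulAction.mem_stabilizer_iff, Set.mem_preimage]
      rw [← e.apply_eq_iff_eq, hsmul, ← hg]
      rw [MulAction.Quotient.smul_mk, QuotientGroup.eq, smul_eq_mul]
      constructor
      · intro hh
        have := V.inv_mem hh
        simpa [mul_assoc] using this
      · intro hh
        have := V.inv_mem hh
        simpa [mul_assoc] using this
    rw [this]
    exact hV.preimage (by fun_prop)
  have hY : Y.IsContinuous := by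
    change ContinuousSMul (Aut F) ((CategoryTheory.forget₂ _ TopCat).obj Y)
    have : DiscreteTopology ((CategoryTheory.forget₂ (Action FintypeCat.{w} (Aut F)) TopCat).obj Y) := by
      exact ⟨rfl⟩
    rw [continuousSMul_iff_stabilizer_isOpen]
    intro t
    exact hstab t
  obtain ⟨A, ⟨i⟩⟩ := Functor.EssSurj.mem_essImage (F := functorToContAction F) ⟨Y, hY⟩
  let φ : F.obj A → ULift.{w} (Fin n) := fun a => i.hom.hom.hom a
  let ψ : ULift.{w} (Fin n) → F.obj A := fun t => i.inv.hom.hom t
  have hφψ : ∀ t, φ (ψ t) = t := by
    intro t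
    have := i.inv_hom_id
    have h2 := congrArg (fun f => f.hom.hom t) this
    exact h2
  have hψφ : ∀ a, ψ (φ a) = a := by
    intro a
    have := i.hom_inv_id
    have h2 := congrArg (fun f => f.hom.hom a) this
    exact h2
  have hφ : ∀ (g : Aut F) (a : F.obj A), φ (g • a) = g • φ a := by
    intro g a
    have := i.hom.hom.comm g
    have h2 := congrArg (fun f => f a) this
    exact h2
  have hφinj : Function.Injective φ := Function.LeftInverse.injective hψφ
  let x : F.obj A := ψ (e.symm ((1 : Aut F) : Aut F ⧸ V))
  have hx : e (φ x) = ((1 : Aut F) : Aut F ⧸ V) := by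
    change e (φ (ψ _)) = _
    rw [hφψ, Equiv.apply_symm_apply]
  have hgx : ∀ g : Aut F, e (φ (g • x)) = ((g : Aut F) : Aut F ⧸ V) := by
    intro g
    rw [hφ, hsmul, hx, MulAction.Quotient.smul_coe, smul_eq_mul, mul_one]
  refine ⟨A, x, ?_, ?_⟩
  · apply isConnected_of_transitive F A x
    intro y
    obtain ⟨σ, hσ⟩ := QuotientGroup.mk_surjective (e (φ y))
    refine ⟨σ, ?_⟩
    apply hφinj
    apply e.injective
    rw [hgx, hσ]
  · ext g
    rw [MulAction.mem_stabilizer_iff]
    constructor
    · intro hg
      have h1 := hgx g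
      rw [hg, hx] at h1
      have h2 := QuotientGroup.eq.1 h1
      simpa using h2
    · intro hg
      apply hφinj
      apply e.injective
      rw [hgx, hx]
      symm
      rw [QuotientGroup.eq]
      simpa using hg

end Helper5.Gal
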