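import Mathlib
import Groth.Agent.Lib.Helper5.Galois.Open

open CategoryTheory CategoryTheory.Limits CategoryTheory.PreGaloisCategory

set_option linter.unusedSectionVars false

namespace Helper5.Gal

universe u v w

section general

variable {G : Type*} [Group G] [TopologicalSpace G]
    [IsTopologicalGroup G] [CompactSpace G] [TotallyDisconnectedSpace G]

lemma closed_subgroup_eq_top (K : Subgroup G) (hK : IsClosed (K : Set G))
    (h : ∀ V : Subgroup G, IsOpen (V : Set G) → K ≤ V → V = ⊤) : K = ⊤ := by
  have := ProfiniteGrp.closedSubgroup_eq_sInf_open (G := G) ⟨K, hK⟩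
  change K = _ at this
  rw [this, eq_top_iff]
  refine le_sInf ?_
  rintro V ⟨hV, hKV⟩
  rw [h V hV hKV]

end general

variable {C C' : Type u} [Category.{v} C] [Category.{v} C'] [GaloisCategory C] [GaloisCategory C']
  (H : C ⥤ C') [PreservesFiniteLimits H] [PreservesFiniteColimits H]
  (F' : C' ⥤ FintypeCat.{w}) [FiberFunctor F'] [FiberFunctor (H ⋙ F')]

lemma continuous_autWhisker : Continuous (Pi1X.autWhisker H F') := by
  rw [Topology.IsInducing.continuous_iff (autEmbedding_isClosedEmbedding _).isInducing,
    continuous_pi_iff]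
  intro X
  change Continuous fun a ↦ autEmbedding F' a (H.obj X)
  exact (continuous_apply (H.obj X)).comp (autEmbedding_isClosedEmbedding F').continuous

lemma isClosed_range_autWhisker :
    IsClosed ((Pi1X.autWhisker H F').range : Set (Aut (H ⋙ F'))) := by
  rw [MonoidHom.coe_range]
  exact (isCompact_range (continuous_autWhisker H F')).isClosed

theorem surjective_iff :
    Function.Surjective (Pi1X.autWhisker H F') ↔ (H.Full ∧ H.Faithful) := by
  constructor
  · intro hsurj
    have hfaith : H.Faithful := Functor.Faithful.of_comp H F'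
    refine ⟨⟨?_⟩, hfaith⟩
    intro X Y f
    let φ : (functorToAction (H ⋙ F')).obj X ⟶ (functorToAction (H ⋙ F')).obj Y :=
      { hom := F'.map f
        comm := fun τ => by
          obtain ⟨σ, rfl⟩ := hsurj τ
          ext x
          exact (mulAction_naturality (F := F') σ f x).symm }
    obtain ⟨f₀, hf₀⟩ := (functorToAction (H ⋙ F')).map_surjective φ
    refine ⟨f₀, ?_⟩
    apply F'.map_injective
    have : (H ⋙ F').map f₀ = F'.map f := by
      rw [← functorToAction_map, hf₀]
    exact this
  · rintro ⟨hfull, hfaith⟩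
    rw [← MonoidHom.range_eq_top]
    apply closed_subgroup_eq_top _ (isClosed_range_autWhisker H F')
    intro V hV hle
    obtain ⟨X, a, -, rfl⟩ := exists_pointed_connected_of_isOpen (H ⋙ F') V hV
    rw [range_le_stabilizer_iff_section] at hle
    obtain ⟨s, hs⟩ := hle
    have hT : IsTerminal (H.obj (⊤_ C)) := IsTerminal.isTerminalObj H _ terminalIsTerminal
    let j : H.obj (⊤_ C) ≅ ⊤_ C' := hT.uniqueUpToIso terminalIsTerminal
    obtain ⟨s₀, hs₀⟩ := H.map_surjective (j.hom ≫ s)
    have hfix : ∀ σ : Aut (H ⋙ F'), σ • a = a := by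
      rw [fixed_iff_exists_section]
      refine ⟨s₀, fun t => ?_⟩
      change F'.map (H.map s₀) t = a
      rw [hs₀, F'.map_comp, FintypeCat.comp_apply, hs]
    rw [eq_top_iff]
    intro σ _
    exact hfix σ

end Helper5.Gal
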