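import Mathlib
import Groth.Agent.Lib.Helper5.Galois.Surj
import Groth.Agent.Lib.Helper5.Galois.KerDesc

open CategoryTheory CategoryTheory.Limits CategoryTheory.PreGaloisCategory

set_option linter.unusedSectionVars false

namespace Helper5.Gal

universe u v w

section general

variable {G : Type*} [Group G] [TopologicalSpace G]
    [IsTopologicalGroup G] [CompactSpace G] [TotallyDisconnectedSpace G]

lemma le_closed_subgroup_iff (L K : Subgroup G) (hK : IsClosed (K : Set G)) :
    L ≤ K ↔ ∀ V : Subgroup G, IsOpen (V : Set G) → K ≤ V → L ≤ V := by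
  constructor
  · intro h V _ hKV
    exact h.trans hKV
  · intro h
    have := ProfiniteGrp.closedSubgroup_eq_sInf_open (G := G) ⟨K, hK⟩
    change K = _ at this
    rw [this]
    refine le_sInf ?_
    rintro V ⟨hV, hKV⟩
    exact h V hV hKV

end general

variable {C C' C'' : Type u} [Category.{v} C] [Category.{v} C'] [Category.{v} C'']
    [GaloisCategory C] [GaloisCategory C'] [GaloisCategory C'']
    (H : C ⥤ C') [PreservesFiniteLimits H] [PreservesFiniteColimits H]
    (H' : C' ⥤ C'') [PreservesFiniteLimits H'] [PreservesFiniteColimits H']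
    (F'' : C'' ⥤ FintypeCat.{w}) [FiberFunctor F''] [FiberFunctor (H' ⋙ F'')]
    [FiberFunctor (H ⋙ (H' ⋙ F''))]

theorem ker_le_range_iff :
    (Pi1X.autWhisker H (H' ⋙ F'')).ker ≤ (Pi1X.autWhisker H' F'').range ↔
      ∀ (X' : C') (a' : (H' ⋙ F'').obj X'), IsConnected X' →
        (∃ s : ⊤_ C'' ⟶ H'.obj X', ∀ t : F''.obj (⊤_ C''), F''.map s t = a') →
          ∃ (X : C) (Y' : C') (i : Y' ⟶ H.obj X) (_ : Y' ⟶ X'), Mono i ∧ IsConnected Y' := by
  rw [le_closed_subgroup_iff _ _ (isClosed_range_autWhisker H' F'')]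
  constructor
  · intro h X' a' hconn hs
    rw [← range_le_stabilizer_iff_section] at hs
    rw [← ker_le_stabilizer_iff H (H' ⋙ F'') X' a']
    exact h _ (stabilizer_isOpen _ a') hs
  · intro h V hV hle
    obtain ⟨X', a', hconn, rfl⟩ := exists_pointed_connected_of_isOpen (H' ⋙ F'') V hV
    rw [ker_le_stabilizer_iff H (H' ⋙ F'') X' a']
    apply h X' a' hconn
    rw [← range_le_stabilizer_iff_section]
    exact hle

end Helper5.Gal
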