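import Mathlib
import Groth.Agent.Lib.Helper5.Galois.Basic

open CategoryTheory CategoryTheory.Limits CategoryTheory.PreGaloisCategory

set_option linter.unusedSectionVars false

namespace Helper5.Gal

universe u v w
variable {C : Type u} [Category.{v} C] [GaloisCategory C] (F : C ⥤ FintypeCat.{w}) [FiberFunctor F]

/-- every point of the fibre of a finite coproduct comes from a summand -/
lemma exists_ι_eq {n : ℕ} (f : Fin n → C) (p : F.obj (∐ f)) :
    ∃ (k : Fin n) (t : F.obj (f k)), F.map (Sigma.ι f k) t = p := by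
  obtain ⟨⟨k⟩, t, ht⟩ := Limits.FintypeCat.jointly_surjective
    (Discrete.functor f ⋙ F) _ (isColimitOfPreserves F (colimit.isColimit (Discrete.functor f))) p
  exact ⟨k, t, ht⟩

/-- `Aut F` acts trivially on the fibre of `Z` iff `Z` is a finite coproduct of copies of the
terminal object. -/
theorem trivial_action_iff (Z : C) :
    (∀ (σ : Aut F) (z : F.obj Z), σ • z = z) ↔
      ∃ n : ℕ, Nonempty (Z ≅ ∐ fun _ : Fin n => ⊤_ C) := by
  let _ := uniqueFiberTerminal F
  constructor
  · intro h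
    let n := Nat.card (F.obj Z)
    let e : Fin n ≃ F.obj Z := (Finite.equivFin (F.obj Z)).symm
    have hs : ∀ k : Fin n, ∃ s : ⊤_ C ⟶ Z, ∀ t : F.obj (⊤_ C), F.map s t = e k :=
      fun k => (fixed_iff_exists_section F Z (e k)).1 (fun σ => h σ _)
    choose s hs using hs
    let Φ : (∐ fun _ : Fin n => ⊤_ C) ⟶ Z := Sigma.desc s
    have hΦ : ∀ (k : Fin n) (t : F.obj (⊤_ C)),
        F.map Φ (F.map (Sigma.ι (fun _ : Fin n => ⊤_ C) k) t) = e k := by
      intro k t
      rw [← FintypeCat.comp_apply, ← F.map_comp, Sigma.ι_desc, hs]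
    have hbij : Function.Bijective (F.map Φ) := by
      constructor
      · intro p p' hpp'
        obtain ⟨k, t, rfl⟩ := exists_ι_eq F _ p
        obtain ⟨k', t', rfl⟩ := exists_ι_eq F _ p'
        rw [hΦ, hΦ] at hpp'
        obtain rfl := e.injective hpp'
        rw [Subsingleton.elim t t']
      · intro z
        refine ⟨F.map (Sigma.ι (fun _ : Fin n => ⊤_ C) (e.symm z)) default, ?_⟩
        rw [hΦ, Equiv.apply_symm_apply]
    have : IsIso (F.map Φ) := by
      have : F.map Φ = (FintypeCat.equivEquivIso (Equiv.ofBijective _ hbij)).hom := by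
        ext x; rfl
      rw [this]; infer_instance
    have : IsIso Φ := isIso_of_reflects_iso Φ F
    exact ⟨n, ⟨(asIso Φ).symm⟩⟩
  · rintro ⟨n, ⟨i⟩⟩ σ z
    obtain ⟨k, t, ht⟩ := exists_ι_eq F _ (F.map i.hom z)
    have hz : z = F.map (Sigma.ι (fun _ : Fin n => ⊤_ C) k ≫ i.inv) t := by
      rw [F.map_comp, FintypeCat.comp_apply, ht, ← FintypeCat.comp_apply, ← F.map_comp,
        i.hom_inv_id, F.map_id, FintypeCat.id_apply]
    rw [hz, mulAction_naturality, Subsingleton.elim (σ • t) t]

section functor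

variable {C' : Type u} [Category.{v} C'] [GaloisCategory C'] (H : C ⥤ C')
  (F' : C' ⥤ FintypeCat.{w}) [FiberFunctor F'] [FiberFunctor (H ⋙ F')]

theorem normalClosure_range_le_stabilizer_iff (X : C) [IsConnected X] (a : (H ⋙ F').obj X) :
    Subgroup.normalClosure ((Pi1X.autWhisker H F').range : Set (Aut (H ⋙ F'))) ≤
        MulAction.stabilizer (Aut (H ⋙ F')) a ↔
      ∃ n : ℕ, Nonempty (H.obj X ≅ ∐ fun _ : Fin n => ⊤_ C') := by
  rw [← trivial_action_iff F' (H.obj X)]
  constructor
  · intro h σ z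
    obtain ⟨g, hg⟩ := MulAction.exists_smul_eq (Aut (H ⋙ F')) a (show (H ⋙ F').obj X from z)
    have hmem : g⁻¹ * Pi1X.autWhisker H F' σ * g ∈
        Subgroup.normalClosure ((Pi1X.autWhisker H F').range : Set (Aut (H ⋙ F'))) := by
      have h1 : Pi1X.autWhisker H F' σ ∈
          Subgroup.normalClosure ((Pi1X.autWhisker H F').range : Set (Aut (H ⋙ F'))) :=
        Subgroup.subset_normalClosure ⟨σ, rfl⟩
      have := Subgroup.normalClosure_normal.conj_mem _ h1 g⁻¹
      simpa using this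
    have h2 := h hmem
    rw [MulAction.mem_stabilizer_iff, mul_smul, mul_smul, hg] at h2
    have h3 : (Pi1X.autWhisker H F' σ) • (show (H ⋙ F').obj X from z) = z := by
      have := congrArg (fun y => g • y) h2
      simpa [hg] using this
    exact h3
  · intro h
    rw [Subgroup.normalClosure, Subgroup.closure_le]
    intro t ht
    obtain ⟨s, ⟨σ, rfl⟩, hconj⟩ := Group.mem_conjugatesOfSet_iff.1 ht
    obtain ⟨g, hg⟩ := isConj_iff.1 hconj
    rw [← hg]
    change (g * Pi1X.autWhisker H F' σ * g⁻¹) • a = a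
    rw [mul_smul, mul_smul]
    have : (Pi1X.autWhisker H F' σ) • (g⁻¹ • a) = g⁻¹ • a := h σ _
    rw [this, smul_inv_smul]

end functor

section comp

variable {C' C'' : Type u} [Category.{v} C'] [Category.{v} C''] [GaloisCategory C']
  [GaloisCategory C''] (H : C ⥤ C') (H' : C' ⥤ C'')
  (F'' : C'' ⥤ FintypeCat.{w}) [FiberFunctor F''] [FiberFunctor (H' ⋙ F'')]
  [FiberFunctor (H ⋙ (H' ⋙ F''))]

lemma autWhisker_autWhisker_eq_one_iff (σ : Aut F'') :
    Pi1X.autWhisker H (H' ⋙ F'') (Pi1X.autWhisker H' F'' σ) = 1 ↔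
      ∀ (X : C) (z : F''.obj (H'.obj (H.obj X))), σ • z = z := by
  constructor
  · intro h X z
    have := congrArg (fun τ : Aut (H ⋙ (H' ⋙ F'')) => τ.hom.app X z) h
    exact this
  · intro h
    apply Iso.ext
    ext X z
    exact h X z

theorem comp_trivial_iff :
    (∀ σ : Aut F'', Pi1X.autWhisker H (H' ⋙ F'') (Pi1X.autWhisker H' F'' σ) = 1) ↔
      ∀ X : C, ∃ n : ℕ, Nonempty (H'.obj (H.obj X) ≅ ∐ fun _ : Fin n => ⊤_ C'') := by
  simp_rw [autWhisker_autWhisker_eq_one_iff, ← trivial_action_iff F'']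
  constructor
  · intro h X σ z
    exact h σ X z
  · intro h σ X z
    exact h X σ z

end comp

end Helper5.Gal
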