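import Mathlib
import Groth.Agent.Lib.Helper5.Galois.KerRange
import Groth.Agent.Lib.Helper5.Galois.Triv

open CategoryTheory CategoryTheory.Limits CategoryTheory.PreGaloisCategory

set_option linter.unusedSectionVars false

namespace Helper5.Gal

universe u v w

section one

variable {C : Type u} [Category.{v} C] [GaloisCategory C] (F : C ⥤ FintypeCat.{w}) [FiberFunctor F]

/-- The kernel of the action of `Aut F` on the fibre of `X`. -/
def kerAct (X : C) : Subgroup (Aut F) where
  carrier := {g | ∀ z : F.obj X, g • z = z}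
  mul_mem' := fun {a b} ha hb z => by rw [mul_smul, hb z, ha z]
  one_mem' := fun z => one_smul _ z
  inv_mem' := fun {a} ha z => by rw [inv_smul_eq_iff, ha z]

lemma mem_kerAct {X : C} {g : Aut F} : g ∈ kerAct F X ↔ ∀ z : F.obj X, g • z = z := Iff.rfl

instance (X : C) : (kerAct F X).Normal where
  conj_mem := fun n hn g z => by
    rw [mul_smul, mul_smul, hn (g⁻¹ • z), smul_inv_smul]

lemma isClosed_kerAct (X : C) : IsClosed (kerAct F X : Set (Aut F)) := by
  have : (kerAct F X : Set (Aut F)) =
      ⋂ z : F.obj X, (MulAction.stabilizer (Aut F) z : Set (Aut F)) := by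
    ext g
    simp only [SetLike.mem_coe, Set.mem_iInter, MulAction.mem_stabilizer_iff]
    exact Iff.rfl
  rw [this]
  exact isClosed_iInter fun z => Subgroup.isClosed_of_isOpen _ (stabilizer_isOpen (Aut F) z)

lemma le_kerAct_iff_le_stabilizer (K : Subgroup (Aut F)) [K.Normal] (X : C) [IsConnected X]
    (a : F.obj X) : K ≤ kerAct F X ↔ K ≤ MulAction.stabilizer (Aut F) a := by
  constructor
  · intro h g hg
    exact h hg a
  · intro h g hg z
    obtain ⟨σ, rfl⟩ := MulAction.exists_smul_eq (Aut F) a z
    have h1 : σ⁻¹ * g * σ ∈ K := by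
      have := (inferInstance : K.Normal).conj_mem g hg σ⁻¹
      simpa using this
    have h2 := h h1
    rw [MulAction.mem_stabilizer_iff, mul_smul, mul_smul, inv_smul_eq_iff] at h2
    exact h2

lemma kerAct_le_of_iso {X Y : C} (e : X ≅ Y) : kerAct F X ≤ kerAct F Y := by
  intro g hg z
  have hz : z = F.map e.hom (F.map e.inv z) := by
    rw [← FintypeCat.comp_apply, ← F.map_comp, e.inv_hom_id, F.map_id, FintypeCat.id_apply]
  rw [hz, mulAction_naturality, hg]

/-- closed normal subgroups are determined by the connected objects on which they act trivially -/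
lemma le_of_forall_kerAct (K₁ K₂ : Subgroup (Aut F)) [K₁.Normal] [K₂.Normal]
    (h₂ : IsClosed (K₂ : Set (Aut F)))
    (h : ∀ X : C, IsConnected X → K₂ ≤ kerAct F X → K₁ ≤ kerAct F X) : K₁ ≤ K₂ := by
  rw [le_closed_subgroup_iff _ _ h₂]
  intro V hV hle
  obtain ⟨X, a, hconn, rfl⟩ := exists_pointed_connected_of_isOpen F V hV
  rw [← le_kerAct_iff_le_stabilizer] at hle ⊢
  exact h X hconn hle

end one

section two

variable {C C' : Type u} [Category.{v} C] [Category.{v} C'] [GaloisCategory C] [GaloisCategory C']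
  (H : C ⥤ C') [PreservesFiniteLimits H] [PreservesFiniteColimits H]
  (F' : C' ⥤ FintypeCat.{w}) [FiberFunctor F'] [FiberFunctor (H ⋙ F')]

/-- `range u` acts trivially on the fibre of `X` iff `H X` is a finite coproduct of terminal objects -/
lemma closure_normalClosure_range_le_kerAct_iff (X : C) :
    (Subgroup.normalClosure (Set.range (Pi1X.autWhisker H F'))).topologicalClosure ≤
        kerAct (H ⋙ F') X ↔
      ∃ n : ℕ, Nonempty (H.obj X ≅ ∐ fun _ : Fin n => ⊤_ C') := by
  rw [← trivial_action_iff F' (H.obj X)]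
  constructor
  · intro h σ z
    have h1 : Pi1X.autWhisker H F' σ ∈
        (Subgroup.normalClosure (Set.range (Pi1X.autWhisker H F'))).topologicalClosure :=
      Subgroup.le_topologicalClosure _ (Subgroup.subset_normalClosure ⟨σ, rfl⟩)
    exact h h1 z
  · intro h
    apply Subgroup.topologicalClosure_minimal _ _ (isClosed_kerAct (H ⋙ F') X)
    apply Subgroup.normalClosure_le_normal
    rintro _ ⟨σ, rfl⟩ z
    exact h σ z

lemma isClosed_ker_autWhisker :
    IsClosed ((Pi1X.autWhisker H F').ker : Set (Aut F')) := by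
  have : ((Pi1X.autWhisker H F').ker : Set (Aut F')) = (Pi1X.autWhisker H F') ⁻¹' {1} := by
    ext g
    simp [MonoidHom.mem_ker]
  rw [this]
  exact isClosed_singleton.preimage (continuous_autWhisker H F')

lemma ker_le_kerAct_of_iso (X : C) (X' : C') (e : H.obj X ≅ X') :
    (Pi1X.autWhisker H F').ker ≤ kerAct F' X' := by
  refine le_trans ?_ (kerAct_le_of_iso F' e)
  intro g hg z
  exact (mem_ker_iff H F' g).1 hg X z

open scoped FintypeCatDiscrete in
theorem exists_iso_of_ker_le_kerAct (hsurj : Function.Surjective (Pi1X.autWhisker H F')) (X' : C')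
    (h : (Pi1X.autWhisker H F').ker ≤ kerAct F' X') : ∃ X : C, Nonempty (H.obj X ≅ X') := by
  have hcont := continuous_autWhisker H F'
  have hquot : Topology.IsQuotientMap (Pi1X.autWhisker H F') :=
    (hcont.isClosedMap).isQuotientMap hcont hsurj
  choose sec hsec using hsurj
  have hker : ∀ g₁ g₂ : Aut F', Pi1X.autWhisker H F' g₁ = Pi1X.autWhisker H F' g₂ →
      ∀ z : F'.obj X', g₁ • z = g₂ • z := by
    intro g₁ g₂ hg z
    have hm : g₂⁻¹ * g₁ ∈ (Pi1X.autWhisker H F').ker := by
      rw [MonoidHom.mem_ker, map_mul, map_inv, hg, inv_mul_cancel]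
    have := h hm z
    rw [mul_smul, inv_smul_eq_iff] at this
    exact this
  let inst : MulAction (Aut (H ⋙ F')) (F'.obj X') :=
    { smul := fun τ z => sec τ • z
      one_smul := fun z => by
        change sec 1 • z = z
        rw [hker (sec 1) 1 (by rw [hsec, map_one]), one_smul]
      mul_smul := fun τ₁ τ₂ z => by
        change sec (τ₁ * τ₂) • z = sec τ₁ • sec τ₂ • z
        rw [← mul_smul]
        exact hker _ _ (by rw [hsec, map_mul, hsec, hsec]) z }
  have hact : ∀ (g : Aut F') (z : F'.obj X'), (Pi1X.autWhisker H F' g) • z = g • z :=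
    fun g z => hker _ _ (hsec _) z
  let Y : Action FintypeCat.{w} (Aut (H ⋙ F')) :=
    Action.FintypeCat.ofMulAction (Aut (H ⋙ F')) (F'.obj X')
  have hY : Y.IsContinuous := by
    change ContinuousSMul (Aut (H ⋙ F')) ((CategoryTheory.forget₂ _ TopCat).obj Y)
    have : DiscreteTopology
        ((CategoryTheory.forget₂ (Action FintypeCat.{w} (Aut (H ⋙ F'))) TopCat).obj Y) := ⟨rfl⟩
    rw [continuousSMul_iff_stabilizer_isOpen]
    intro z
    rw [← hquot.isOpen_preimage]
    have hz := stabilizer_isOpen (Aut F') (show F'.obj X' from z)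
    convert hz using 1
    ext g
    change (Pi1X.autWhisker H F' g) • (show F'.obj X' from z) = z ↔
      g • (show F'.obj X' from z) = z
    rw [hact]
  obtain ⟨X, ⟨i⟩⟩ := Functor.EssSurj.mem_essImage (F := functorToContAction (H ⋙ F')) ⟨Y, hY⟩
  let φ : F'.obj (H.obj X) → F'.obj X' := fun a => i.hom.hom.hom a
  let ψ : F'.obj X' → F'.obj (H.obj X) := fun t => i.inv.hom.hom t
  have hφψ : ∀ t, φ (ψ t) = t := by
    intro t
    have := i.inv_hom_id
    have h2 := congrArg (fun f => f.hom.hom t) this
    exact h2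
  have hψφ : ∀ a, ψ (φ a) = a := by
    intro a
    have := i.hom_inv_id
    have h2 := congrArg (fun f => f.hom.hom a) this
    exact h2
  have hφ : ∀ (τ : Aut (H ⋙ F')) (a : F'.obj (H.obj X)),
      φ (τ • (show (H ⋙ F').obj X from a)) = τ • φ a := by
    intro g a
    have := i.hom.hom.comm g
    have h2 := congrArg (fun f => f a) this
    exact h2
  let θ : (functorToAction F').obj (H.obj X) ⟶ (functorToAction F').obj X' :=
    { hom := FintypeCat.homMk φ
      comm := fun g => by
        ext (a : F'.obj (H.obj X))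
        have h1 := hφ (Pi1X.autWhisker H F' g) a
        rw [hact] at h1
        exact h1 }
  obtain ⟨f, hf⟩ := (functorToAction F').map_surjective θ
  have hmap : F'.map f = FintypeCat.homMk φ := by
    rw [← functorToAction_map, hf]
    rfl
  have : IsIso (F'.map f) := by
    have : F'.map f = (FintypeCat.equivEquivIso
        (⟨φ, ψ, hψφ, hφψ⟩ : F'.obj (H.obj X) ≃ F'.obj X')).hom := by
      rw [hmap]; rfl
    rw [this]; infer_instance
  have : IsIso f := isIso_of_reflects_iso f F'
  exact ⟨X, ⟨asIso f⟩⟩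

end two

section three

variable {C C' C'' : Type u} [Category.{v} C] [Category.{v} C'] [Category.{v} C'']
    [GaloisCategory C] [GaloisCategory C'] [GaloisCategory C'']
    (H : C ⥤ C') [PreservesFiniteLimits H] [PreservesFiniteColimits H]
    (H' : C' ⥤ C'') [PreservesFiniteLimits H'] [PreservesFiniteColimits H']
    (F'' : C'' ⥤ FintypeCat.{w}) [FiberFunctor F''] [FiberFunctor (H' ⋙ F'')]
    [FiberFunctor (H ⋙ (H' ⋙ F''))]

theorem exact_iff :
    (Function.Surjective (Pi1X.autWhisker H (H' ⋙ F'')) ∧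
      (∀ σ : Aut F'', Pi1X.autWhisker H (H' ⋙ F'') (Pi1X.autWhisker H' F'' σ) = 1) ∧
      (Pi1X.autWhisker H (H' ⋙ F'')).ker =
        (Subgroup.normalClosure (Set.range (Pi1X.autWhisker H' F''))).topologicalClosure) ↔
    ((H.Full ∧ H.Faithful) ∧
      ∀ X' : C', (∃ X : C, Nonempty (H.obj X ≅ X')) ↔
        ∃ n : ℕ, Nonempty (H'.obj X' ≅ ∐ fun _ : Fin n => ⊤_ C'')) := by
  have key : Function.Surjective (Pi1X.autWhisker H (H' ⋙ F'')) → ∀ X' : C',
      ((∃ X : C, Nonempty (H.obj X ≅ X')) ↔
        (Pi1X.autWhisker H (H' ⋙ F'')).ker ≤ kerAct (H' ⋙ F'') X') := by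
    intro hsurj X'
    constructor
    · rintro ⟨X, ⟨e⟩⟩
      exact ker_le_kerAct_of_iso H (H' ⋙ F'') X X' e
    · intro h
      exact exists_iso_of_ker_le_kerAct H (H' ⋙ F'') hsurj X' h
  constructor
  · rintro ⟨hsurj, -, hker⟩
    refine ⟨(surjective_iff H (H' ⋙ F'')).1 hsurj, fun X' => ?_⟩
    rw [key hsurj X', hker, closure_normalClosure_range_le_kerAct_iff]
  · rintro ⟨hff, hB⟩
    have hsurj := (surjective_iff H (H' ⋙ F'')).2 hff
    have hker : (Pi1X.autWhisker H (H' ⋙ F'')).ker =
        (Subgroup.normalClosure (Set.range (Pi1X.autWhisker H' F''))).topologicalClosure := by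
      have hiff : ∀ X' : C', (Pi1X.autWhisker H (H' ⋙ F'')).ker ≤ kerAct (H' ⋙ F'') X' ↔
          (Subgroup.normalClosure (Set.range (Pi1X.autWhisker H' F''))).topologicalClosure ≤
            kerAct (H' ⋙ F'') X' := by
        intro X'
        rw [← key hsurj X', hB X', closure_normalClosure_range_le_kerAct_iff]
      have hn : (Subgroup.normalClosure
          (Set.range (Pi1X.autWhisker H' F''))).topologicalClosure.Normal :=
        Subgroup.is_normal_topologicalClosure _
      apply le_antisymm
      · exact le_of_forall_kerAct (H' ⋙ F'') _ _ (Subgroup.isClosed_topologicalClosure _)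
          (fun X' _ h => (hiff X').2 h)
      · exact le_of_forall_kerAct (H' ⋙ F'') _ _ (isClosed_ker_autWhisker H (H' ⋙ F''))
          (fun X' _ h => (hiff X').1 h)
    refine ⟨hsurj, ?_, hker⟩
    intro σ
    rw [← MonoidHom.mem_ker, hker]
    exact Subgroup.le_topologicalClosure _ (Subgroup.subset_normalClosure ⟨σ, rfl⟩)

end three

end Helper5.Gal
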