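import Mathlib
import Groth.Agent.Lib.Helper5.Galois.KerDesc

open CategoryTheory CategoryTheory.Limits CategoryTheory.PreGaloisCategory

set_option linter.unusedSectionVars false

namespace Helper5.Gal

universe u v w
variable {C C' : Type u} [Category.{v} C] [Category.{v} C'] [GaloisCategory C] [GaloisCategory C']
  (H : C ⥤ C') [PreservesFiniteLimits H] [PreservesFiniteColimits H]
  (F' : C' ⥤ FintypeCat.{w}) [FiberFunctor F'] [FiberFunctor (H ⋙ F')]

theorem injective_iff :
    Function.Injective (Pi1X.autWhisker H F') ↔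
      ∀ X' : C', IsConnected X' →
        ∃ (X : C) (Y' : C') (p : Y' ⟶ X') (q : Y' ⟶ H.obj X), Epi p ∧ Mono q := by
  rw [← MonoidHom.ker_eq_bot_iff]
  constructor
  · intro h X' hX'
    obtain ⟨a'⟩ := nonempty_fiber_of_isConnected F' X'
    have hle : (Pi1X.autWhisker H F').ker ≤ MulAction.stabilizer (Aut F') a' := by
      rw [h]; exact bot_le
    obtain ⟨X, Y', i, q, hmono, hconn⟩ := (ker_le_stabilizer_iff H F' X' a').1 hle
    have : Nonempty (F'.obj Y') := nonempty_fiber_of_isConnected F' Y'
    exact ⟨X, Y', q, i, epi_of_nonempty_of_isConnected F' q, hmono⟩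
  · intro h
    rw [eq_bot_iff]
    intro g hg
    rw [mem_ker_iff] at hg
    rw [Subgroup.mem_bot]
    apply Iso.ext
    ext Z' z'
    obtain ⟨X', j, a', ha', hconn, -⟩ := fiber_in_connected_component F' Z' z'
    obtain ⟨X, Y', p, q, hp, hq⟩ := h X' hconn
    obtain ⟨y, hy⟩ := surjective_on_fiber_of_epi F' p a'
    have h1 : g • y = y := by
      apply map_injective_of_mono F' q
      rw [← mulAction_naturality, hg]
    have h2 : g • z' = z' := by
      rw [← ha', ← hy, mulAction_naturality, mulAction_naturality, h1]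
    exact h2

end Helper5.Gal
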