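import Mathlib
import Groth.Agent.Lib.Helper5.Galois.Ker

open CategoryTheory CategoryTheory.Limits CategoryTheory.PreGaloisCategory

set_option linter.unusedSectionVars false

namespace Helper5.Gal

universe u v w

section lex

variable {C : Type u} [Category.{v} C] [HasFiniteLimits C] (G : C ⥤ FintypeCat.{w})
  [PreservesFiniteLimits G]

noncomputable def lexProdEquiv (X Y : C) : G.obj (X ⨯ Y) ≃ G.obj X × G.obj Y :=
  (PreservesLimitPair.iso (G ⋙ FintypeCat.incl) X Y ≪≫
  Types.binaryProductIso (G.obj X) (G.obj Y)).toEquiv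

lemma lexProdEquiv_symm_fst {X Y : C} (x : G.obj X) (y : G.obj Y) :
    G.map prod.fst ((lexProdEquiv G X Y).symm (x, y)) = x := by
  simp only [lexProdEquiv]
  change ((Types.binaryProductIso _ _).inv ≫ _ ≫ (G ⋙ FintypeCat.incl).map prod.fst) _ = _
  erw [PreservesLimitPair.iso_inv_fst, Types.binaryProductIso_inv_comp_fst]
  rfl

lemma lexProdEquiv_symm_snd {X Y : C} (x : G.obj X) (y : G.obj Y) :
    G.map prod.snd ((lexProdEquiv G X Y).symm (x, y)) = y := by
  simp only [lexProdEquiv]
  change ((Types.binaryProductIso _ _).inv ≫ _ ≫ (G ⋙ FintypeCat.incl).map prod.snd) _ = _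
  erw [PreservesLimitPair.iso_inv_snd, Types.binaryProductIso_inv_comp_snd]
  rfl

lemma exists_prod_elt (X Y : C) (x : G.obj X) (y : G.obj Y) :
    ∃ p : G.obj (X ⨯ Y), G.map prod.fst p = x ∧ G.map prod.snd p = y :=
  ⟨_, lexProdEquiv_symm_fst G x y, lexProdEquiv_symm_snd G x y⟩

lemma lex_prod_ext {X Y : C} (p p' : G.obj (X ⨯ Y)) (h1 : G.map prod.fst p = G.map prod.fst p')
    (h2 : G.map prod.snd p = G.map prod.snd p') : p = p' := by
  apply (lexProdEquiv G X Y).injective
  obtain ⟨⟨b, x⟩, rfl⟩ := (lexProdEquiv G X Y).symm.surjective p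
  obtain ⟨⟨b', x'⟩, rfl⟩ := (lexProdEquiv G X Y).symm.surjective p'
  rw [lexProdEquiv_symm_fst, lexProdEquiv_symm_fst] at h1
  rw [lexProdEquiv_symm_snd, lexProdEquiv_symm_snd] at h2
  rw [h1, h2]

noncomputable def lexEqualizerEquiv {X Y : C} (f g : X ⟶ Y) :
    G.obj (equalizer f g) ≃ { x : G.obj X // G.map f x = G.map g x } :=
  (PreservesEqualizer.iso (G ⋙ FintypeCat.incl) f g ≪≫
    Types.equalizerIso (G.map f).hom (G.map g).hom).toEquiv

lemma nonempty_equalizer_of_eq {X Y : C} (f g : X ⟶ Y) (x : G.obj X)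
    (h : G.map f x = G.map g x) : Nonempty (G.obj (equalizer f g)) :=
  ⟨(lexEqualizerEquiv G f g).symm ⟨x, h⟩⟩

end lex

section init

variable {C : Type u} [Category.{v} C] [HasBinaryCoproducts C] (G : C ⥤ FintypeCat.{w})
  [PreservesColimitsOfShape (Discrete WalkingPair) G]

lemma isEmpty_of_isInitial {X : C} (hX : IsInitial X) : IsEmpty (G.obj X) := by
  refine ⟨fun t => ?_⟩
  have hcolim := isColimitOfHasBinaryCoproductOfPreservesColimit G X X
  let T : FintypeCat.{w} := FintypeCat.of (ULift.{w} Bool)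
  let c₁ : G.obj X ⟶ T := FintypeCat.homMk (fun _ => ULift.up true)
  let c₂ : G.obj X ⟶ T := FintypeCat.homMk (fun _ => ULift.up false)
  let d := hcolim.desc (BinaryCofan.mk c₁ c₂)
  have h1 : G.map coprod.inl ≫ d = c₁ := hcolim.fac (BinaryCofan.mk c₁ c₂) ⟨WalkingPair.left⟩
  have h2 : G.map coprod.inr ≫ d = c₂ := hcolim.fac (BinaryCofan.mk c₁ c₂) ⟨WalkingPair.right⟩
  have h3 : (coprod.inl : X ⟶ X ⨿ X) = coprod.inr := hX.hom_ext _ _
  rw [h3, h2] at h1
  have := congrArg (fun f : G.obj X ⟶ T => f t) h1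
  change ULift.up false = ULift.up true at this
  simp at this

lemma preservesInitial_of_binary [HasInitial C] :
    PreservesColimitsOfShape (Discrete.{0} PEmpty) G := by
  have hE : IsEmpty (G.obj (⊥_ C)) := isEmpty_of_isInitial G initialIsInitial
  obtain ⟨hI⟩ := (Concrete.initial_iff_empty_of_preserves_of_reflects (G.obj (⊥_ C))).2 hE
  have : PreservesColimit (Functor.empty.{0} C) G :=
    preservesInitial_of_iso G (initialIsInitial.uniqueUpToIso hI)
  exact preservesColimitsOfShape_pempty_of_preservesInitial G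

lemma preservesFiniteCoproducts_of_binary [HasFiniteCoproducts C] (J : Type*) [Finite J] :
    PreservesColimitsOfShape (Discrete J) G := by
  have := preservesInitial_of_binary G
  exact PreservesFiniteCoproducts.of_preserves_binary_and_initial G J

end init

end Helper5.Gal
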