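import Mathlib
import Groth.Agent.Lib.Helper5.Galois.Ker

open CategoryTheory CategoryTheory.Limits CategoryTheory.PreGaloisCategory

set_option linter.unusedSectionVars false

namespace Helper5.Gal

universe u v w

variable {C : Type u} [Category.{v} C] [GaloisCategory C] (F : C ⥤ FintypeCat.{w}) [FiberFunctor F]

open PointedGaloisObject in
/-- The category of pointed Galois objects is cofiltered (any universe). -/
lemma isCofilteredOrEmpty_pointed : IsCofilteredOrEmpty (PointedGaloisObject F) where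
  cone_objs := fun ⟨A, a, _⟩ ⟨B, b, _⟩ ↦ by
    obtain ⟨Z, f, z, hgal, hfz⟩ := exists_hom_from_galois_of_fiber F (A ⨯ B)
      <| (fiberBinaryProductEquiv F A B).symm (a, b)
    refine ⟨⟨Z, z, hgal⟩, ⟨f ≫ prod.fst, ?_⟩, ⟨f ≫ prod.snd, ?_⟩, trivial⟩
    · simp only [F.map_comp, hfz, FintypeCat.comp_apply, fiberBinaryProductEquiv_symm_fst_apply]
    · simp only [F.map_comp, hfz, FintypeCat.comp_apply, fiberBinaryProductEquiv_symm_snd_apply]
  cone_maps := fun ⟨A, a, _⟩ ⟨B, b, _⟩ ⟨f, hf⟩ ⟨g, hg⟩ ↦ by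
    obtain ⟨Z, h, z, hgal, hhz⟩ := exists_hom_from_galois_of_fiber F A a
    refine ⟨⟨Z, z, hgal⟩, ⟨h, hhz⟩, hom_ext ?_⟩
    apply evaluation_injective_of_isConnected F Z B z
    simp [hhz, hf, hg]

/-- A compatible system of points of `F'` over pointed Galois objects. -/
lemma exists_compatible_system (F' : C ⥤ FintypeCat.{w})
    (hne : ∀ A : C, IsConnected A → Nonempty (F'.obj A)) :
    ∃ s : ∀ A : PointedGaloisObject F, F'.obj A.obj,
      ∀ (A B : PointedGaloisObject F) (f : A ⟶ B), F'.map f.val (s A) = s B := by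
  have := isCofilteredOrEmpty_pointed F
  let Φ : PointedGaloisObject F ⥤ Type w := PointedGaloisObject.incl F ⋙ F' ⋙ FintypeCat.incl
  have h1 : ∀ j, Finite (Φ.obj j) := fun j => by
    change Finite (F'.obj j.obj)
    infer_instance
  have h2 : ∀ j, Nonempty (Φ.obj j) := fun j => hne j.obj inferInstance
  obtain ⟨s, hs⟩ := nonempty_sections_of_finite_cofiltered_system Φ
  exact ⟨s, fun A B f => hs f⟩

end Helper5.Gal
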