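import Mathlib
import Groth.Agent.Lib.Helper5.Galois.UniqA
import Groth.Agent.Lib.Helper5.Galois.UniqB

open CategoryTheory CategoryTheory.Limits CategoryTheory.PreGaloisCategory

set_option linter.unusedSectionVars false

namespace Helper5.Gal

universe u v w

variable {C : Type u} [Category.{v} C] [GaloisCategory C] (F : C ⥤ FintypeCat.{w}) [FiberFunctor F]
  (F' : C ⥤ FintypeCat.{w})

lemma exists_rep (X : C) (x : F.obj X) :
    ∃ (A : PointedGaloisObject F) (f : A.obj ⟶ X), F.map f A.pt = x := by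
  obtain ⟨A, f, a, hgal, hfa⟩ := exists_hom_from_galois_of_fiber F X x
  exact ⟨⟨A, a, hgal⟩, f, hfa⟩

section sys

variable (s : ∀ A : PointedGaloisObject F, F'.obj A.obj)
  (hs : ∀ (A B : PointedGaloisObject F) (f : A ⟶ B), F'.map f.val (s A) = s B)

include hs in
lemma eta_wd (X : C) (A B : PointedGaloisObject F) (f : A.obj ⟶ X) (g : B.obj ⟶ X)
    (hfg : F.map f A.pt = F.map g B.pt) : F'.map f (s A) = F'.map g (s B) := by
  obtain ⟨Z, p, q, -⟩ := (isCofilteredOrEmpty_pointed F).cone_objs A B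
  have h1 : p.val ≫ f = q.val ≫ g := by
    apply evaluation_injective_of_isConnected F Z.obj X Z.pt
    change F.map (p.val ≫ f) Z.pt = F.map (q.val ≫ g) Z.pt
    rw [F.map_comp, F.map_comp, FintypeCat.comp_apply, FintypeCat.comp_apply, p.comp, q.comp, hfg]
  rw [← hs Z A p, ← hs Z B q, ← FintypeCat.comp_apply, ← F'.map_comp, h1, F'.map_comp,
    FintypeCat.comp_apply]

noncomputable def etaFun (X : C) (x : F.obj X) : F'.obj X :=
  F'.map (exists_rep F X x).choose_spec.choose (s (exists_rep F X x).choose)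

include hs in
lemma etaFun_eq (X : C) (A : PointedGaloisObject F) (f : A.obj ⟶ X) :
    etaFun F F' s X (F.map f A.pt) = F'.map f (s A) :=
  eta_wd F F' s hs X _ A _ f (exists_rep F X (F.map f A.pt)).choose_spec.choose_spec

include hs in
lemma etaFun_natural {X Y : C} (g : X ⟶ Y) (x : F.obj X) :
    etaFun F F' s Y (F.map g x) = F'.map g (etaFun F F' s X x) := by
  obtain ⟨A, f, rfl⟩ := exists_rep F X x
  rw [etaFun_eq F F' s hs, ← FintypeCat.comp_apply, ← F.map_comp, etaFun_eq F F' s hs,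
    F'.map_comp, FintypeCat.comp_apply]

section bij

variable [PreservesFiniteLimits F'] [PreservesColimitsOfShape (Discrete WalkingPair) F']

include hs in
lemma etaFun_injective (X : C) : Function.Injective (etaFun F F' s X) := by
  intro x₁ x₂ hx
  obtain ⟨A₁, f₁, rfl⟩ := exists_rep F X x₁
  obtain ⟨A₂, f₂, rfl⟩ := exists_rep F X x₂
  rw [etaFun_eq F F' s hs, etaFun_eq F F' s hs] at hx
  obtain ⟨Z, p, q, -⟩ := (isCofilteredOrEmpty_pointed F).cone_objs A₁ A₂
  have hg : F'.map (p.val ≫ f₁) (s Z) = F'.map (q.val ≫ f₂) (s Z) := by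
    rw [F'.map_comp, F'.map_comp, FintypeCat.comp_apply, FintypeCat.comp_apply, hs, hs, hx]
  obtain ⟨e⟩ := nonempty_equalizer_of_eq F' (p.val ≫ f₁) (q.val ≫ f₂) (s Z) hg
  have hnI : IsInitial (equalizer (p.val ≫ f₁) (q.val ≫ f₂)) → False :=
    fun hI => (isEmpty_of_isInitial F' hI).false e
  have : IsIso (equalizer.ι (p.val ≫ f₁) (q.val ≫ f₂)) :=
    IsConnected.noTrivialComponent _ (equalizer.ι (p.val ≫ f₁) (q.val ≫ f₂)) hnI
  have hgg : p.val ≫ f₁ = q.val ≫ f₂ := by
    rw [← cancel_epi (equalizer.ι (p.val ≫ f₁) (q.val ≫ f₂))]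
    exact equalizer.condition _ _
  calc F.map f₁ A₁.pt = F.map (p.val ≫ f₁) Z.pt := by
        rw [F.map_comp, FintypeCat.comp_apply, p.comp]
    _ = F.map (q.val ≫ f₂) Z.pt := by rw [hgg]
    _ = F.map f₂ A₂.pt := by rw [F.map_comp, FintypeCat.comp_apply, q.comp]

/-- A Galois object representing the fibre of `X` trivialises `X`. -/
lemma isIso_sigma_graph (X A : C) (a : F.obj A) [IsGalois A]
    (hbij : Function.Bijective (fun (f : A ⟶ X) ↦ F.map f a)) :
    IsIso (Sigma.desc (fun f : A ⟶ X => prod.lift (𝟙 A) f) :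
      (∐ fun _ : (A ⟶ X) => A) ⟶ A ⨯ X) := by
  have : Fintype (A ⟶ X) := Fintype.ofFinite _
  set Φ : (∐ fun _ : (A ⟶ X) => A) ⟶ A ⨯ X := Sigma.desc (fun f : A ⟶ X => prod.lift (𝟙 A) f)
  have hsurjF : ∀ q : F.obj (∐ fun _ : (A ⟶ X) => A), ∃ (f : A ⟶ X) (b : F.obj A),
      F.map (Sigma.ι (fun _ : (A ⟶ X) => A) f) b = q := by
    intro q
    obtain ⟨⟨f⟩, b, hb⟩ := Limits.FintypeCat.jointly_surjective
      (Discrete.functor (fun _ : (A ⟶ X) => A) ⋙ F) _
      (isColimitOfPreserves F (colimit.isColimit (Discrete.functor (fun _ : (A ⟶ X) => A)))) q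
    exact ⟨f, b, hb⟩
  have hΦι : ∀ (f : A ⟶ X) (b : F.obj A),
      F.map Φ (F.map (Sigma.ι (fun _ : (A ⟶ X) => A) f) b) = F.map (prod.lift (𝟙 A) f) b := by
    intro f b
    rw [← FintypeCat.comp_apply, ← F.map_comp, Sigma.ι_desc]
  have hfst : ∀ (f : A ⟶ X) (b : F.obj A), F.map prod.fst (F.map (prod.lift (𝟙 A) f) b) = b := by
    intro f b
    rw [← FintypeCat.comp_apply, ← F.map_comp, prod.lift_fst, F.map_id, FintypeCat.id_apply]
  have hsnd : ∀ (f : A ⟶ X) (b : F.obj A),
      F.map prod.snd (F.map (prod.lift (𝟙 A) f) b) = F.map f b := by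
    intro f b
    rw [← FintypeCat.comp_apply, ← F.map_comp, prod.lift_snd]
  have hinj : Function.Injective (F.map Φ) := by
    intro q₁ q₂ hq
    obtain ⟨f₁, b₁, rfl⟩ := hsurjF q₁
    obtain ⟨f₂, b₂, rfl⟩ := hsurjF q₂
    rw [hΦι, hΦι] at hq
    have h1 : b₁ = b₂ := by
      have := congrArg (F.map prod.fst) hq
      rwa [hfst, hfst] at this
    subst h1
    have h2 : F.map f₁ b₁ = F.map f₂ b₁ := by
      have := congrArg (F.map prod.snd) hq
      rwa [hsnd, hsnd] at this
    have h3 : f₁ = f₂ := evaluation_injective_of_isConnected F A X b₁ h2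
    rw [h3]
  have hsurj : Function.Surjective (F.map Φ) := by
    intro p
    obtain ⟨τ, hτ⟩ := evaluation_aut_surjective_of_isGalois F A a (F.map prod.fst p)
    obtain ⟨f₀, hf₀⟩ := hbij.surjective (F.map prod.snd p)
    refine ⟨F.map (Sigma.ι (fun _ : (A ⟶ X) => A) (τ.inv ≫ f₀)) (F.map prod.fst p), ?_⟩
    rw [hΦι]
    apply lex_prod_ext F
    · rw [hfst]
    · rw [hsnd, ← hτ]
      change F.map (τ.inv ≫ f₀) (F.map τ.hom a) = _
      have hτ' : τ.hom ≫ τ.inv ≫ f₀ = f₀ := Iso.hom_inv_id_assoc (show A ≅ A from τ) f₀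
      rw [← FintypeCat.comp_apply, ← F.map_comp, hτ']
      exact hf₀
  have : IsIso (F.map Φ) := by
    have : F.map Φ = (FintypeCat.equivEquivIso (Equiv.ofBijective _ ⟨hinj, hsurj⟩)).hom := by
      ext x; rfl
    rw [this]; infer_instance
  exact isIso_of_reflects_iso Φ F

include hs in
lemma etaFun_surjective (X : C) : Function.Surjective (etaFun F F' s X) := by
  intro y'
  obtain ⟨A, a, hgal, hbij⟩ := exists_galois_representative F X
  let Ap : PointedGaloisObject F := ⟨A, a, hgal⟩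
  have : Fintype (A ⟶ X) := Fintype.ofFinite _
  have hΦ := isIso_sigma_graph F X A a hbij
  set Φ : (∐ fun _ : (A ⟶ X) => A) ⟶ A ⨯ X := Sigma.desc (fun f : A ⟶ X => prod.lift (𝟙 A) f)
  obtain ⟨p', hp1, hp2⟩ := exists_prod_elt F' A X (s Ap) y'
  obtain ⟨q, hq⟩ : ∃ q, F'.map Φ q = p' := by
    refine ⟨F'.map (inv Φ) p', ?_⟩
    rw [← FintypeCat.comp_apply, ← F'.map_comp, IsIso.inv_hom_id, F'.map_id, FintypeCat.id_apply]
  have := preservesFiniteCoproducts_of_binary F' (A ⟶ X)
  obtain ⟨⟨f⟩, c, hc⟩ := Limits.FintypeCat.jointly_surjective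
    (Discrete.functor (fun _ : (A ⟶ X) => A) ⋙ F') _
    (isColimitOfPreserves F' (colimit.isColimit (Discrete.functor (fun _ : (A ⟶ X) => A)))) q
  have hc' : F'.map (Sigma.ι (fun _ : (A ⟶ X) => A) f) c = q := hc
  have h3 : F'.map (prod.lift (𝟙 A) f) c = p' := by
    rw [← hq, ← hc', ← FintypeCat.comp_apply, ← F'.map_comp, Sigma.ι_desc]
  have h4 : c = s Ap := by
    rw [← hp1, ← h3, ← FintypeCat.comp_apply, ← F'.map_comp, prod.lift_fst, F'.map_id,
      FintypeCat.id_apply]
  have h5 : F'.map f c = y' := by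
    rw [← hp2, ← h3, ← FintypeCat.comp_apply, ← F'.map_comp, prod.lift_snd]
  refine ⟨F.map f a, ?_⟩
  rw [etaFun_eq F F' s hs X Ap f, ← h4, h5]

end bij

end sys

/-- Uniqueness of fibre functors: a left exact functor to finite sets which preserves binary
coproducts and is nonempty on non-initial objects is isomorphic to `F`. -/
theorem nonempty_iso_of_lex [PreservesFiniteLimits F']
    [PreservesColimitsOfShape (Discrete WalkingPair) F']
    (h : ∀ X : C, IsEmpty (F'.obj X) → Nonempty (IsInitial X)) : Nonempty (F' ≅ F) := by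
  have hne : ∀ A : C, IsConnected A → Nonempty (F'.obj A) := by
    intro A hA
    by_contra hcon
    rw [not_nonempty_iff] at hcon
    obtain ⟨hI⟩ := h A hcon
    exact IsConnected.notInitial hI
  obtain ⟨s, hs⟩ := exists_compatible_system F F' hne
  have hbij : ∀ X : C, Function.Bijective (etaFun F F' s X) :=
    fun X => ⟨etaFun_injective F F' s hs X, etaFun_surjective F F' s hs X⟩
  refine ⟨(NatIso.ofComponents
    (fun X => FintypeCat.equivEquivIso (Equiv.ofBijective _ (hbij X))) ?_).symm⟩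
  intro X Y g
  ext x
  exact (etaFun_natural F F' s hs g x)

end Helper5.Gal
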