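import Mathlib
import Groth.Agent.Lib.Helper5.Galois.UniqC
import Groth.Agent.Lib.Helper5.Galois.Basic

open CategoryTheory CategoryTheory.Limits CategoryTheory.PreGaloisCategory

set_option linter.unusedSectionVars false

namespace Helper5.Gal

universe u v w

variable {C : Type u} [Category.{v} C] [GaloisCategory C] (F : C ⥤ FintypeCat.{w}) [FiberFunctor F]
  (F' : C ⥤ FintypeCat.{w})

include F in
lemma nonempty_obj_of_preservesEpi [PreservesFiniteLimits F'] [F'.PreservesEpimorphisms] (X : C)
    (hX : IsInitial X → False) : Nonempty (F'.obj X) := by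
  have hT : IsTerminal ((F' ⋙ FintypeCat.incl).obj (⊤_ C)) :=
    IsTerminal.isTerminalObj _ _ terminalIsTerminal
  let uT : Unique (F'.obj (⊤_ C)) := Types.isTerminalEquivUnique _ hT
  obtain ⟨x⟩ := (not_initial_iff_fiber_nonempty F X).1 hX
  let _ := uniqueFiberTerminal F
  have hsurj : Function.Surjective (F.map (terminal.from X)) := by
    intro t
    exact ⟨x, Subsingleton.elim _ _⟩
  have hepiF : Epi (F.map (terminal.from X)) := by
    rw [← Functor.epi_map_iff_epi (F := FintypeCat.incl), CategoryTheory.epi_iff_surjective]
    exact hsurj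
  have hepi : Epi (terminal.from X) := F.epi_of_epi_map hepiF
  have hepi' : Epi (F'.map (terminal.from X)) := inferInstance
  have hsurj' : Function.Surjective (F'.map (terminal.from X)) :=
    surjective_of_epi (FintypeCat.incl.map (F'.map (terminal.from X)))
  obtain ⟨y, -⟩ := hsurj' uT.default
  exact ⟨y⟩

theorem nonempty_iso_of_preservesEpi [PreservesFiniteLimits F']
    [PreservesColimitsOfShape (Discrete WalkingPair) F'] [F'.PreservesEpimorphisms] :
    Nonempty (F' ≅ F) := by
  apply nonempty_iso_of_lex F F'
  intro X hX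
  by_contra hcon
  have : IsInitial X → False := fun hI => hcon ⟨hI⟩
  obtain ⟨y⟩ := nonempty_obj_of_preservesEpi F F' X this
  exact hX.false y

theorem nonempty_iso_of_exact [PreservesFiniteLimits F'] [PreservesFiniteColimits F'] :
    Nonempty (F' ≅ F) :=
  nonempty_iso_of_preservesEpi F F'

end Helper5.Gal
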