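import Mathlib
import Groth.Agent.Lib.Helper5.Galois.UniqD
import Groth.Agent.Lib.Helper5.Galois.Surj

open CategoryTheory CategoryTheory.Limits CategoryTheory.PreGaloisCategory

set_option linter.unusedSectionVars false

namespace Helper5.Gal

universe u v w

variable {C D : Type u} [Category.{v} C] [Category.{v} D] [GaloisCategory C] [GaloisCategory D]
  (H : C ⥤ D) [PreservesFiniteLimits H] [PreservesFiniteColimits H]

lemma preservesQuot_of_preservesFiniteColimits (G : Type*) [Group G] [Finite G] :
    PreservesColimitsOfShape (SingleObj G) H := by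
  choose G' hg hf he using Finite.exists_type_univ_nonempty_mulEquiv G
  have : Fintype G' := Fintype.ofFinite _
  exact Limits.preservesColimitsOfShape_of_equiv he.some.toSingleObjEquiv.symm H

/-- The composite of an exact functor of Galois categories with a fibre functor is a fibre
functor. -/
theorem fiberFunctorComp (F' : D ⥤ FintypeCat.{w}) [FiberFunctor F'] :
    FiberFunctor (H ⋙ F') := by
  let F : C ⥤ FintypeCat.{w} := GaloisCategory.getFiberFunctor C ⋙ FintypeCat.uSwitch.{v, w}
  have hF : FiberFunctor F := FiberFunctor.comp_right _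
  have : PreservesColimitsOfShape (Discrete WalkingPair) (H ⋙ F') := inferInstance
  obtain ⟨e⟩ : Nonempty (H ⋙ F' ≅ F) := nonempty_iso_of_preservesEpi F (H ⋙ F')
  exact
    { preservesTerminalObjects := inferInstance
      preservesPullbacks := inferInstance
      preservesFiniteCoproducts := ⟨fun n => inferInstance⟩
      preservesEpis := inferInstance
      preservesQuotientsByFiniteGroups := fun G _ _ => by
        have := preservesQuot_of_preservesFiniteColimits H G
        infer_instance
      reflectsIsos := reflectsIsomorphisms_of_iso e.symm }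

theorem fullyFaithful_iff_preservesConnected :
    (H.Full ∧ H.Faithful) ↔ ∀ X : C, IsConnected X → IsConnected (H.obj X) := by
  let F' := GaloisCategory.getFiberFunctor D
  have : FiberFunctor (H ⋙ F') := fiberFunctorComp H F'
  rw [← surjective_iff H F']
  constructor
  · intro hsurj X hX
    obtain ⟨x⟩ := nonempty_fiber_of_isConnected (H ⋙ F') X
    apply isConnected_of_transitive F' (H.obj X) x
    intro y
    obtain ⟨τ, hτ⟩ := MulAction.exists_smul_eq (Aut (H ⋙ F')) x (show (H ⋙ F').obj X from y)
    obtain ⟨σ, rfl⟩ := hsurj τ
    exact ⟨σ, hτ⟩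
  · intro h
    rw [← MonoidHom.range_eq_top]
    apply closed_subgroup_eq_top _ (isClosed_range_autWhisker H F')
    intro V hV hle
    obtain ⟨X, a, hconn, rfl⟩ := exists_pointed_connected_of_isOpen (H ⋙ F') V hV
    have hc := h X hconn
    rw [range_le_stabilizer_iff] at hle
    rw [eq_top_iff]
    intro τ _
    rw [MulAction.mem_stabilizer_iff]
    obtain ⟨σ, hσ⟩ := MulAction.exists_smul_eq (Aut F') (show F'.obj (H.obj X) from a) (τ • a)
    have h2 := hle σ
    rw [hσ] at h2
    exact h2

end Helper5.Gal
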